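import Mathlib

/-!
The orbital graph of a suborbit of size sixteen among 77 points of a rank three action.
-/

set_option autoImplicit false

namespace Cfsg.Agent.H69.MTwentyTwo

open MulAction
open scoped Pointwise

variable {G Ω : Type*} [Group G] [MulAction G Ω]

/-- The graph of pairs which are translates of the base point and a point of the suborbit. -/
def orbitalGraph (a : Ω) (S : Set Ω) : SimpleGraph Ω :=
  SimpleGraph.fromRel fun x y => ∃ k : G, k • x = a ∧ k • y ∈ S

variable {a b : Ω} {g : G}

theorem adj_iff (hga : g • a = b) (hgb : g • b = a)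
    (hab : a ∉ orbit (stabilizer G a) b) {x y : Ω} :
    (orbitalGraph (G := G) a (orbit (stabilizer G a) b)).Adj x y ↔
      ∃ k : G, k • x = a ∧ k • y ∈ orbit (stabilizer G a) b := by
  have hsymm : ∀ {x y : Ω}, (∃ k : G, k • x = a ∧ k • y ∈ orbit (stabilizer G a) b) →
      ∃ k : G, k • y = a ∧ k • x ∈ orbit (stabilizer G a) b := by
    rintro x y ⟨k, hx, ⟨h, hh⟩, he⟩
    change h • b = k • y at he
    refine ⟨g * h⁻¹ * k, ?_, ?_⟩
    · rw [mul_smul, mul_smul, ← he, inv_smul_smul, hgb]
    · have : h⁻¹ • a = a := inv_smul_eq_iff.2 (mem_stabilizer_iff.1 hh).symm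
      rw [mul_smul, mul_smul, hx, this, hga]
      exact mem_orbit_self b
  constructor
  · intro h
    rcases h.2 with h | h
    · exact h
    · exact hsymm h
  · intro h
    refine ⟨?_, Or.inl h⟩
    rintro rfl
    obtain ⟨k, hx, hy⟩ := h
    exact hab (hx ▸ hy)

theorem adj_smul (hga : g • a = b) (hgb : g • b = a)
    (hab : a ∉ orbit (stabilizer G a) b) (u : G) {x y : Ω} :
    (orbitalGraph (G := G) a (orbit (stabilizer G a) b)).Adj (u • x) (u • y) ↔
      (orbitalGraph (G := G) a (orbit (stabilizer G a) b)).Adj x y := by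
  rw [adj_iff hga hgb hab, adj_iff hga hgb hab]
  constructor
  · rintro ⟨k, h1, h2⟩
    exact ⟨k * u, by rwa [mul_smul], by rwa [mul_smul]⟩
  · rintro ⟨k, h1, h2⟩
    exact ⟨k * u⁻¹, by rwa [mul_smul, inv_smul_smul], by rwa [mul_smul, inv_smul_smul]⟩

theorem adj_base (hga : g • a = b) (hgb : g • b = a)
    (hab : a ∉ orbit (stabilizer G a) b) {y : Ω} :
    (orbitalGraph (G := G) a (orbit (stabilizer G a) b)).Adj a y ↔
      y ∈ orbit (stabilizer G a) b := by
  rw [adj_iff hga hgb hab]
  constructor
  · rintro ⟨k, hk, hy⟩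
    have := orbit_eq_iff.2 hy
    rw [← this]
    refine ⟨⟨k⁻¹, (stabilizer G a).inv_mem hk⟩, ?_⟩
    exact inv_smul_smul k y
  · exact fun h => ⟨1, one_smul _ _, by rwa [one_smul]⟩

theorem isSRG [Finite G] [Fintype Ω] [IsPretransitive G Ω] (c : Ω) (hga : g • a = b) (hgb : g • b = a)
    (hab : a ∉ orbit (stabilizer G a) b) (hΩ : Fintype.card Ω = 77)
    (h16 : Nat.card (orbit (stabilizer G a) b) = 16)
    (h60 : Nat.card (orbit (stabilizer G a) c) = 60)
    (hall : ∀ y, y = a ∨ y ∈ orbit (stabilizer G a) b ∨ y ∈ orbit (stabilizer G a) c)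
    (h17 : ¬ 17 ∣ Nat.card G)
    [DecidableRel (orbitalGraph (G := G) a (orbit (stabilizer G a) b)).Adj] :
    (orbitalGraph (G := G) a (orbit (stabilizer G a) b)).IsSRGWith 77 16 0 4 := by
  classical
  let Γ := orbitalGraph (G := G) a (orbit (stabilizer G a) b)
  have hinv : ∀ (u : G) (x y : Ω), Γ.Adj (u • x) (u • y) ↔ Γ.Adj x y :=
    fun u x y => adj_smul hga hgb hab u
  have hbase : ∀ y, Γ.Adj a y ↔ y ∈ orbit (stabilizer G a) b := fun y => adj_base hga hgb hab
  let N : Ω → Finset Ω := fun x => Finset.univ.filter (Γ.Adj x)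
  have hmemN : ∀ x y, y ∈ N x ↔ Γ.Adj x y := fun x y => by simp [N]
  have hNsmul : ∀ (u : G) (x : Ω), N (u • x) = (N x).image (u • ·) := by
    intro u x
    ext y
    simp only [Finset.mem_image, hmemN]
    constructor
    · intro h
      exact ⟨u⁻¹ • y, (hinv u _ _).1 (by rwa [smul_inv_smul]), smul_inv_smul u y⟩
    · rintro ⟨z, hz, rfl⟩
      exact (hinv u _ _).2 hz
  have hsz : ∀ (S : Set Ω), Nat.card S = (Finset.univ.filter (· ∈ S)).card := fun S => by
    rw [Nat.card_eq_fintype_card, Fintype.card_subtype]
  have hNa : (N a).card = 16 := by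
    rw [← h16, hsz]
    congr 1
    ext y
    simp [hmemN, hbase]
  have hN : ∀ x, (N x).card = 16 := by
    intro x
    obtain ⟨u, rfl⟩ := exists_smul_eq G a x
    rw [hNsmul, Finset.card_image_of_injective _ (MulAction.injective u), hNa]
  have hcommon : ∀ (u : G) (x y : Ω), (N (u • x) ∩ N (u • y)).card = (N x ∩ N y).card := by
    intro u x y
    rw [hNsmul, hNsmul, ← Finset.image_inter _ _ (MulAction.injective u),
      Finset.card_image_of_injective _ (MulAction.injective u)]
  have hconst : ∀ y z, y ∈ orbit (stabilizer G a) z → (N a ∩ N y).card = (N a ∩ N z).card := by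
    rintro _ z ⟨⟨h, hh⟩, rfl⟩
    have := hcommon h a z
    rw [mem_stabilizer_iff.1 hh] at this
    exact this
  set l := (N a ∩ N b).card with hl
  set m := (N a ∩ N c).card with hm
  set O := Finset.univ.filter (· ∈ orbit (stabilizer G a) c) with hO
  have hOc : O.card = 60 := by rw [hO, ← hsz, h60]
  have hdis : ∀ y, y ∈ orbit (stabilizer G a) c → y ≠ a ∧ y ∉ orbit (stabilizer G a) b := by
    have hne : orbit (stabilizer G a) b ≠ orbit (stabilizer G a) c := fun e => by
      rw [e, h60] at h16; omega
    intro y hy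
    refine ⟨?_, fun hyb => hne ((orbit_eq_iff.2 hyb).symm.trans (orbit_eq_iff.2 hy))⟩
    rintro rfl
    have : orbit (stabilizer G y) c = {y} := by
      rw [← orbit_eq_iff.2 hy]
      ext z
      constructor
      · rintro ⟨⟨h, hh⟩, rfl⟩
        exact mem_stabilizer_iff.1 hh
      · rintro rfl; exact mem_orbit_self _
    rw [this] at h60
    simp at h60
  -- counting between the two suborbits
  have hsplit : ∀ u ∈ N a, (O.filter (Γ.Adj u)).card + l + 1 = 16 := by
    intro u hu
    have hub : u ∈ orbit (stabilizer G a) b := (hbase u).1 ((hmemN a u).1 hu)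
    rw [← hN u, hl, ← hconst u b hub]
    have e : N u = insert a ((N a ∩ N u) ∪ O.filter (Γ.Adj u)) := by
      ext y
      simp only [Finset.mem_insert, Finset.mem_union, Finset.mem_inter, Finset.mem_filter, hmemN, hO,
        Finset.mem_univ, true_and]
      constructor
      · intro h
        rcases hall y with h' | h' | h'
        · exact Or.inl h'
        · exact Or.inr (Or.inl ⟨(hbase y).2 h', h⟩)
        · exact Or.inr (Or.inr ⟨h', h⟩)
      · rintro (rfl | ⟨-, h⟩ | ⟨-, h⟩)
        · exact ((hmemN _ u).1 hu).symm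
        all_goals exact h
    conv_rhs => rw [e]
    rw [Finset.card_insert_of_notMem, Finset.card_union_of_disjoint]
    · omega
    · rw [Finset.disjoint_left]
      intro y hy hy'
      rw [Finset.mem_inter, hmemN, hbase] at hy
      rw [Finset.mem_filter, hO, Finset.mem_filter] at hy'
      exact (hdis y hy'.1.2).2 hy.1
    · simp only [hO, Finset.mem_union, Finset.mem_inter, hmemN, Finset.mem_filter, Finset.mem_univ,
        true_and]
      rintro (⟨h, -⟩ | ⟨h, -⟩)
      · exact Γ.loopless.irrefl a h
      · exact (hdis a h).1 rfl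
  have hside : ∀ y ∈ O, ((N a).filter fun u => Γ.Adj u y).card = m := by
    intro y hy
    rw [hm, ← hconst y c (Finset.mem_filter.1 hy).2]
    congr 1
    ext u
    simp only [Finset.mem_filter, Finset.mem_inter, hmemN, Γ.adj_comm u y]
  have hcount : 16 * (15 - l) = 60 * m := by
    have h := Finset.sum_card_bipartiteAbove_eq_sum_card_bipartiteBelow (s := N a) (t := O)
      (r := fun u y => Γ.Adj u y)
    simp only [Finset.bipartiteAbove, Finset.bipartiteBelow] at h
    rw [Finset.sum_congr rfl (g := fun _ => 15 - l) (fun u hu => by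
        have h' := hsplit u hu
        convert (show (O.filter (Γ.Adj u)).card = 15 - l by omega) using 3),
      Finset.sum_congr rfl hside, Finset.sum_const, Finset.sum_const, hNa, hOc] at h
    simpa using h
  have hne15 : l ≠ 15 := by
    intro hl15
    have hm0 : m = 0 := by rw [hl15] at hcount; omega
    let S : Finset Ω := insert a (N a)
    have hScard : S.card = 17 := by
      rw [Finset.card_insert_of_notMem, hNa]
      simp [hmemN]
    have hclosed : ∀ x ∈ S, N x ⊆ S := by
      intro x hx y hy
      rcases Finset.mem_insert.1 hx with rfl | hx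
      · exact Finset.mem_insert_of_mem hy
      · rcases hall y with h | h | h
        · exact h ▸ Finset.mem_insert_self _ _
        · exact Finset.mem_insert_of_mem ((hmemN a y).2 ((hbase y).2 h))
        · exfalso
          have := hsplit x hx
          rw [hl15] at this
          have h0 : (O.filter (Γ.Adj x)).card = 0 := by omega
          rw [Finset.card_eq_zero] at h0
          have : y ∈ O.filter (Γ.Adj x) :=
            Finset.mem_filter.2 ⟨Finset.mem_filter.2 ⟨Finset.mem_univ _, h⟩, (hmemN x y).1 hy⟩
          rw [h0] at this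
          exact absurd this (Finset.notMem_empty y)
    have hblock : ∀ k : G, k • a ∈ S → k • S = S := by
      intro k hk
      refine Finset.eq_of_subset_of_card_le ?_ (by rw [Finset.card_smul_finset])
      intro z hz
      obtain ⟨w, hw, rfl⟩ := Finset.mem_smul_finset.1 hz
      rcases Finset.mem_insert.1 hw with rfl | hw
      · exact hk
      · exact hclosed _ hk ((hmemN _ _).2 ((hinv k _ _).2 ((hmemN a w).1 hw)))
    set K := stabilizer G S with hK
    have horb : orbit K a = (S : Set Ω) := by
      ext z
      constructor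
      · rintro ⟨⟨k, hk⟩, rfl⟩
        change k • a ∈ S
        rw [← mem_stabilizer_iff.1 hk]
        exact Finset.smul_mem_smul_finset (Finset.mem_insert_self _ _)
      · intro hz
        obtain ⟨k, rfl⟩ := exists_smul_eq G a z
        exact ⟨⟨k, mem_stabilizer_iff.2 (hblock k hz)⟩, rfl⟩
    have hdvd : Nat.card (orbit K a) ∣ Nat.card G := by
      rw [Nat.card_coe_set_eq, ← index_stabilizer]
      exact (Subgroup.index_dvd_card _).trans (Subgroup.card_subgroup_dvd_card K)
    rw [horb, Nat.card_coe_set_eq, Set.ncard_coe_finset, hScard] at hdvd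
    exact h17 hdvd
  have hl15 : l ≤ 15 := by
    have := hsplit b ((hmemN a b).2 ((hbase b).2 (mem_orbit_self b)))
    omega
  have hl0 : l = 0 := by omega
  have hm4 : m = 4 := by rw [hl0] at hcount; omega
  have hcn : ∀ v w : Ω, Fintype.card (Γ.commonNeighbors v w) = (N v ∩ N w).card := by
    intro v w
    rw [← Set.toFinset_card]
    congr 1
    ext y
    simp [SimpleGraph.mem_commonNeighbors, hmemN]
  refine ⟨hΩ, fun v => ?_, fun v w hvw => ?_, fun v w hne hvw => ?_⟩
  · rw [← hN v, ← Γ.card_neighborFinset_eq_degree]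
    congr 1
    ext y
    simp [hmemN]
  all_goals
    obtain ⟨k, hk⟩ := exists_smul_eq G v a
    rw [hcn, ← hcommon k, hk]
  · rw [hconst (k • w) b ((hbase _).1 (by rw [← hk, hinv]; exact hvw)), ← hl, hl0]
  · have hc' : k • w ∈ orbit (stabilizer G a) c := by
      rcases hall (k • w) with h | h | h
      · exact absurd (smul_left_cancel k (hk.trans h.symm)) hne
      · exact absurd ((hinv k v w).1 (hk.symm ▸ (hbase _).2 h)) hvw
      · exact h
    rw [hconst (k • w) c hc', ← hm, hm4]

end Cfsg.Agent.H69.MTwentyTwo
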