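import Cfsg.Agent.H69.MTwentyTwo.Data

/-!
The automorphism group of a graph with parameters (77, 16, 0, 4) has order at most 887040.
-/

set_option autoImplicit false

namespace Cfsg.Agent.H69.MTwentyTwo

open H29.Srg77

theorem blk_mem {j : ℕ} (hj : j < 60) : blk j ∈ stdAll := by
  have h : j < stdAll.length := by rw [stdAll_facts.1]; exact hj
  rw [blk, List.getD_eq_getElem _ _ h]
  exact List.getElem_mem h

theorem blk_lt {j : ℕ} (hj : j < 60) : blk j < 2 ^ 16 :=
  of_decide_eq_true (List.all_eq_true.1 stdAll_facts.2.2.1 _ (blk_mem hj))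

theorem blk_inj {i j : ℕ} (hi : i < 60) (hj : j < 60) (h : blk i = blk j) : i = j := by
  have hi' : i < stdAll.length := by rw [stdAll_facts.1]; exact hi
  have hj' : j < stdAll.length := by rw [stdAll_facts.1]; exact hj
  rw [blk, blk, List.getD_eq_getElem _ _ hi', List.getD_eq_getElem _ _ hj'] at h
  exact (List.Nodup.getElem_inj_iff stdAll_facts.2.1).1 h

theorem tri_iff {a b c : ℕ} (ha : a < 16) (hb : b < 16) (hc : c < 16) :
    tri a b c = true ↔ ∃ j < 60, (blk j).testBit a = true ∧ (blk j).testBit b = true ∧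
      (blk j).testBit c = true := by
  have h := tri_check
  simp only [List.all_eq_true, List.mem_range, beq_iff_eq] at h
  rw [h a ha b hb c hc, List.any_eq_true]
  constructor
  · rintro ⟨m, hm, hbits⟩
    obtain ⟨j, hj, rfl⟩ := List.mem_iff_getElem.1 hm
    simp only [Bool.and_eq_true] at hbits
    refine ⟨j, by rw [← stdAll_facts.1]; exact hj, ?_⟩
    rw [blk, List.getD_eq_getElem _ _ hj]
    exact ⟨hbits.1.1, hbits.1.2, hbits.2⟩
  · rintro ⟨j, hj, h1, h2, h3⟩
    exact ⟨blk j, blk_mem hj, by simp [h1, h2, h3]⟩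

variable {V : Type*} [Fintype V] [DecidableEq V] {Γ : SimpleGraph V} [DecidableRel Γ.Adj]

/-- An automorphism group of such a graph has order at most `887040`. -/
theorem card_aut_le (hΓ : Γ.IsSRGWith 77 16 0 4) : Nat.card (Γ ≃g Γ) ≤ 887040 := by
  classical
  obtain ⟨F, hF, hr, ha⟩ := exists_coords hΓ
  obtain ⟨w, hw⟩ : none ∈ Set.range F := by rw [hr]; exact Set.mem_insert _ _
  have hl : ∀ i, ∃ v, i < 16 → F v = some (Sum.inl i) := by
    intro i
    by_cases hi : i < 16
    · obtain ⟨v, hv⟩ : some (Sum.inl i) ∈ Set.range F := by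
        rw [hr]; exact Set.mem_insert_of_mem _ ⟨_, Or.inl ⟨i, hi, rfl⟩, rfl⟩
      exact ⟨v, fun _ => hv⟩
    · exact ⟨w, fun h => absurd h hi⟩
  choose lab hlab using hl
  have cases3 : ∀ v, v = w ∨ (∃ i < 16, v = lab i) ∨ ∃ j < 60, F v = some (Sum.inr j) := by
    intro v
    have hv : F v ∈ Set.range F := ⟨v, rfl⟩
    rw [hr] at hv
    rcases hv with h | ⟨_, (⟨i, hi, rfl⟩ | ⟨j, hj, rfl⟩), h⟩
    · exact Or.inl (hF (h.trans hw.symm))
    · exact Or.inr (Or.inl ⟨i, hi, hF (h.symm.trans (hlab i hi).symm)⟩)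
    · exact Or.inr (Or.inr ⟨j, hj, h.symm⟩)
  have hfar : ∀ v j, F v = some (Sum.inr j) → v ≠ w ∧ ¬ Γ.Adj w v := by
    intro v j h
    refine ⟨fun e => ?_, fun e => ?_⟩
    · rw [e, hw] at h; cases h
    · rw [ha, hw, h] at e; exact e
  have hwlab : ∀ i < 16, Γ.Adj w (lab i) := by
    intro i hi; rw [ha, hw, hlab i hi]; trivial
  have hbit : ∀ v j i, F v = some (Sum.inr j) → i < 16 →
      (Γ.Adj v (lab i) ↔ (blk j).testBit i = true) := by
    intro v j i h hi; rw [ha, h, hlab i hi]; rfl
  have hlabinj : ∀ i < 16, ∀ j < 16, lab i = lab j → i = j := by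
    intro i hi j hj e
    have h := hlab i hi
    rw [e, hlab j hj] at h
    exact ((Sum.inl_injective (Option.some_injective _ h))).symm
  have htri : ∀ i < 16, ∀ j < 16, ∀ k < 16, (tri i j k = true ↔
      ∃ u, u ≠ w ∧ ¬ Γ.Adj w u ∧ Γ.Adj u (lab i) ∧ Γ.Adj u (lab j) ∧ Γ.Adj u (lab k)) := by
    intro i hi j hj k hk
    rw [tri_iff hi hj hk]
    constructor
    · rintro ⟨n, hn, h1, h2, h3⟩
      obtain ⟨u, hu⟩ : some (Sum.inr n) ∈ Set.range F := by
        rw [hr]; exact Set.mem_insert_of_mem _ ⟨_, Or.inr ⟨n, hn, rfl⟩, rfl⟩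
      exact ⟨u, (hfar u n hu).1, (hfar u n hu).2, (hbit u n i hu hi).2 h1,
        (hbit u n j hu hj).2 h2, (hbit u n k hu hk).2 h3⟩
    · rintro ⟨u, h0, h0', h1, h2, h3⟩
      rcases cases3 u with h | ⟨m, hm, rfl⟩ | ⟨n, hn, hu⟩
      · exact absurd h h0
      · exact absurd (hwlab m hm) h0'
      · exact ⟨n, hn, (hbit u n i hu hi).1 h1, (hbit u n j hu hj).1 h2, (hbit u n k hu hk).1 h3⟩
  let St := MulAction.stabilizer (Γ ≃g Γ) w
  have hfw : ∀ f : St, (f : Γ ≃g Γ) w = w := fun f => f.2
  have hp : ∀ (f : St) (i : ℕ), ∃ i', i < 16 → i' < 16 ∧ (f : Γ ≃g Γ) (lab i) = lab i' := by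
    intro f i
    by_cases hi : i < 16
    · have h1 : Γ.Adj w ((f : Γ ≃g Γ) (lab i)) := by
        have := (f : Γ ≃g Γ).map_rel_iff.2 (hwlab i hi)
        rwa [hfw f] at this
      rcases cases3 ((f : Γ ≃g Γ) (lab i)) with h | ⟨i', hi', h⟩ | ⟨j, hj, h⟩
      · exact absurd h h1.ne'
      · exact ⟨i', fun _ => ⟨hi', h⟩⟩
      · exact absurd h1 (hfar _ j h).2
    · exact ⟨0, fun h => absurd h hi⟩
  choose p hp using hp
  have pinj : ∀ (f : St), ∀ i < 16, ∀ j < 16, p f i = p f j → i = j := by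
    intro f i hi j hj e
    apply hlabinj i hi j hj
    apply (f : Γ ≃g Γ).injective
    rw [(hp f i hi).2, (hp f j hj).2, e]
  have ptri : ∀ (f : St), ∀ i < 16, ∀ j < 16, ∀ k < 16,
      tri (p f i) (p f j) (p f k) = tri i j k := by
    intro f i hi j hj k hk
    rw [Bool.eq_iff_iff, htri _ (hp f i hi).1 _ (hp f j hj).1 _ (hp f k hk).1, htri i hi j hj k hk,
      ← (hp f i hi).2, ← (hp f j hj).2, ← (hp f k hk).2]
    constructor
    · rintro ⟨u, h0, h0', h1, h2, h3⟩
      obtain ⟨v, rfl⟩ := (f : Γ ≃g Γ).surjective u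
      refine ⟨v, fun e => h0 (e ▸ hfw f), fun e => h0' ?_, (f : Γ ≃g Γ).map_rel_iff.1 h1,
        (f : Γ ≃g Γ).map_rel_iff.1 h2, (f : Γ ≃g Γ).map_rel_iff.1 h3⟩
      have := (f : Γ ≃g Γ).map_rel_iff.2 e
      rwa [hfw f] at this
    · rintro ⟨v, h0, h0', h1, h2, h3⟩
      refine ⟨(f : Γ ≃g Γ) v, fun e => h0 ((f : Γ ≃g Γ).injective (e.trans (hfw f).symm)),
        fun e => h0' ?_, (f : Γ ≃g Γ).map_rel_iff.2 h1, (f : Γ ≃g Γ).map_rel_iff.2 h2,
        (f : Γ ≃g Γ).map_rel_iff.2 h3⟩
      rw [← hfw f] at e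
      exact (f : Γ ≃g Γ).map_rel_iff.1 e
  let t : St → ℕ × ℕ × ℕ × ℕ × ℕ := fun f => (p f 0, p f 1, p f 4, p f 2, p f 8)
  have ht : ∀ f, t f ∈ bases := by
    intro f
    have l : ∀ i, i < 16 → p f i < 16 := fun i hi => (hp f i hi).1
    have ne : ∀ i j, i < 16 → j < 16 → i ≠ j → p f i ≠ p f j :=
      fun i j hi hj h e => h (pinj f i hi j hj e)
    have T := ptri f
    obtain ⟨q1, q2, q3, q4, q5, q6, q7, q8, q9, q10⟩ := base_pattern
    simp only [t, bases, List.mem_flatMap, List.mem_filter, List.mem_map, List.mem_range,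
      Bool.and_eq_true, bne_iff_ne, Bool.not_eq_true', Prod.mk.injEq]
    refine ⟨_, l 0 (by norm_num), _, l 1 (by norm_num), _, ⟨l 4 (by norm_num), ?_⟩,
      _, ⟨l 2 (by norm_num), ?_⟩, _, ⟨l 8 (by norm_num), ?_⟩, rfl, rfl, rfl, rfl, rfl⟩
    · simp only [T _ (by norm_num : (0:ℕ) < 16) _ (by norm_num : (1:ℕ) < 16) _
        (by norm_num : (4:ℕ) < 16)]
      exact ⟨⟨⟨ne _ _ (by norm_num) (by norm_num) (by norm_num),
        ne _ _ (by norm_num) (by norm_num) (by norm_num)⟩,
        ne _ _ (by norm_num) (by norm_num) (by norm_num)⟩, q1⟩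
    · rw [T 0 (by norm_num) 1 (by norm_num) 2 (by norm_num),
        T 0 (by norm_num) 4 (by norm_num) 2 (by norm_num),
        T 1 (by norm_num) 4 (by norm_num) 2 (by norm_num)]
      exact ⟨⟨⟨⟨⟨ne _ _ (by norm_num) (by norm_num) (by norm_num),
        ne _ _ (by norm_num) (by norm_num) (by norm_num)⟩,
        ne _ _ (by norm_num) (by norm_num) (by norm_num)⟩, q2⟩, q3⟩, q4⟩
    · rw [T 0 (by norm_num) 1 (by norm_num) 8 (by norm_num),
        T 0 (by norm_num) 4 (by norm_num) 8 (by norm_num),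
        T 0 (by norm_num) 2 (by norm_num) 8 (by norm_num),
        T 1 (by norm_num) 4 (by norm_num) 8 (by norm_num),
        T 1 (by norm_num) 2 (by norm_num) 8 (by norm_num),
        T 4 (by norm_num) 2 (by norm_num) 8 (by norm_num)]
      exact ⟨⟨⟨⟨⟨⟨⟨⟨⟨ne _ _ (by norm_num) (by norm_num) (by norm_num),
        ne _ _ (by norm_num) (by norm_num) (by norm_num)⟩,
        ne _ _ (by norm_num) (by norm_num) (by norm_num)⟩,
        ne _ _ (by norm_num) (by norm_num) (by norm_num)⟩, q5⟩, q6⟩, q7⟩, q8⟩, q9⟩, q10⟩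
  have key : ∀ h : St, (∀ i ∈ baseList.take 5, p h i = i) → h = 1 := by
    intro h hb
    have hfix : ∀ k < 16, p h (baseList.getD k 0) = baseList.getD k 0 := by
      intro k
      induction k using Nat.strong_induction_on with
      | _ k ih =>
        intro hk
        have hlt : ∀ n < 16, baseList.getD n 0 < 16 := by decide +kernel
        have hlen : baseList.length = 16 := rfl
        have hmem : ∀ i ∈ baseList.take k, i < 16 ∧ p h i = i := by
          intro i hi
          obtain ⟨n, hn, rfl⟩ := List.mem_take_iff_getElem.1 hi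
          have hn' : n < k ∧ n < 16 := by omega
          rw [← List.getD_eq_getElem baseList 0]
          exact ⟨hlt n hn'.2, ih n hn'.1 hn'.2⟩
        by_cases h4 : k ≤ 4
        · exact hb _ (by interval_cases k <;> decide)
        have hd := determined
        simp only [List.all_eq_true, List.mem_range, Bool.or_eq_true] at hd
        rcases hd k hk with h' | h'
        · exact absurd (Nat.le_of_ble_eq_true h') h4
        set x := baseList.getD k 0
        have hx : x < 16 := hlt k hk
        rcases h' (p h x) (hp h x hx).1 with (hc | hc) | hc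
        · rw [List.contains_iff_mem] at hc
          obtain ⟨hy, hpy⟩ := hmem _ hc
          exact pinj h _ hy _ hx hpy
        · exact (beq_iff_eq.1 hc).symm
        · exfalso
          have : sameOn (baseList.take k) x (p h x) = true := by
            simp only [sameOn, List.all_eq_true, beq_iff_eq]
            intro i hi j hj
            obtain ⟨hi', hpi⟩ := hmem i hi
            obtain ⟨hj', hpj⟩ := hmem j hj
            have := ptri h i hi' j hj' x hx
            rw [hpi, hpj] at this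
            exact this.symm
          rw [this] at hc
          exact Bool.noConfusion hc
    have hall : ∀ i < 16, (h : Γ ≃g Γ) (lab i) = lab i := by
      intro i hi
      obtain ⟨k, hk, rfl⟩ : ∃ k < 16, baseList.getD k 0 = i := by
        revert i; decide +kernel
      rw [(hp h _ hi).2, hfix k hk]
    refine Subtype.ext (RelIso.ext fun v => ?_)
    show (h : Γ ≃g Γ) v = v
    rcases cases3 v with rfl | ⟨i, hi, rfl⟩ | ⟨j, hj, hv⟩
    · exact hfw h
    · exact hall i hi
    · rcases cases3 ((h : Γ ≃g Γ) v) with e | ⟨i, hi, e⟩ | ⟨j', hj', hv'⟩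
      · exact absurd ((h : Γ ≃g Γ).injective (e.trans (hfw h).symm)) (hfar v j hv).1
      · exact absurd ((h : Γ ≃g Γ).injective (e.trans (hall i hi).symm))
          (fun e' => by rw [e', hlab i hi] at hv; cases hv)
      · apply hF
        rw [hv, hv', blk_inj hj' hj ?_]
        apply Nat.eq_of_testBit_eq
        intro i
        by_cases hi : i < 16
        · rw [Bool.eq_iff_iff, ← hbit _ _ _ hv' hi, ← hbit _ _ _ hv hi]
          conv_lhs => rw [← hall i hi]
          exact (h : Γ ≃g Γ).map_rel_iff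
        · have hle : 2 ^ 16 ≤ 2 ^ i := Nat.pow_le_pow_right (by norm_num) (by omega)
          rw [Nat.testBit_lt_two_pow (lt_of_lt_of_le (blk_lt hj') hle),
            Nat.testBit_lt_two_pow (lt_of_lt_of_le (blk_lt hj) hle)]
  have tinj : Function.Injective t := by
    intro f g e
    simp only [t, Prod.mk.injEq] at e
    obtain ⟨e0, e1, e2, e3, e4⟩ := e
    have hh : g⁻¹ * f = 1 := by
      refine key _ fun i hi => ?_
      have hi' : i < 16 ∧ p f i = p g i := by
        have : baseList.take 5 = [0, 1, 4, 2, 8] := rfl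
        rw [this] at hi
        simp only [List.mem_cons, List.not_mem_nil, or_false] at hi
        rcases hi with rfl | rfl | rfl | rfl | rfl <;> exact ⟨by norm_num, by assumption⟩
      apply hlabinj _ (hp _ i hi'.1).1 i hi'.1
      rw [← (hp _ i hi'.1).2]
      have he : (f : Γ ≃g Γ) (lab i) = (g : Γ ≃g Γ) (lab i) := by
        rw [(hp f i hi'.1).2, (hp g i hi'.1).2, hi'.2]
      show (g : Γ ≃g Γ).symm ((f : Γ ≃g Γ) (lab i)) = lab i
      rw [he, RelIso.symm_apply_apply]
    exact (inv_mul_eq_one.1 hh).symm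
  haveI : Finite (Γ ≃g Γ) := Finite.of_injective (fun f => (f : V → V)) DFunLike.coe_injective
  haveI : Fintype St := Fintype.ofFinite St
  have hSt : Nat.card St ≤ 11520 := by
    rw [Nat.card_eq_fintype_card, ← length_bases]
    calc Fintype.card St = (Finset.univ.image t).card := by
          rw [Finset.card_image_of_injective _ tinj, Finset.card_univ]
      _ ≤ bases.toFinset.card := Finset.card_le_card fun x hx => by
          obtain ⟨f, -, rfl⟩ := Finset.mem_image.1 hx
          exact List.mem_toFinset.2 (ht f)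
      _ ≤ bases.length := List.toFinset_card_le _
  rw [← St.card_mul_index, MulAction.index_stabilizer]
  have h77 : (MulAction.orbit (Γ ≃g Γ) w).ncard ≤ 77 := by
    refine (Set.ncard_le_ncard (Set.subset_univ _)).trans ?_
    rw [Set.ncard_univ, Nat.card_eq_fintype_card, hΓ.card]
  exact (Nat.mul_le_mul hSt h77).trans (by norm_num)

end Cfsg.Agent.H69.MTwentyTwo
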