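import Cfsg.Agent.H29.SrgModel
import Cfsg.Agent.H29.SteinerAut

/-!
M22 inside the automorphism group of the block graph of the S(3,6,22).
-/

set_option autoImplicit false

namespace Cfsg.Agent.H69.MTwentyTwo

open Finset H29
open scoped Pointwise

/-- The block graph of the standard S(3,6,22). -/
def model : SimpleGraph ↥std22 :=
  SimpleGraph.fromRel fun b c => Disjoint (b : Finset GolayPt) (c : Finset GolayPt)

theorem model_srg [Fintype ↥std22] [DecidableRel model.Adj] : model.IsSRGWith 77 16 0 4 := by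
  classical
  rw [← hex22_facts.1]
  refine isSRG_of_check hex22 hex22_facts.2.1 H29.bRel (fun b => Golay.maskOf b.1) ?_ ?_ ?_ hex22_check
  · intro a b h
    exact Subtype.ext (maskOf_injective h)
  · intro n
    constructor
    · intro hn
      refine ⟨⟨Golay.ptSet n, ⟨n, hn, rfl⟩⟩, ?_⟩
      exact Golay.ptSet_injOn (Golay.maskOf_lt _) (hex22_lt n hn) (Golay.ptSet_maskOf _)
    · rintro ⟨b, rfl⟩
      exact mem_hex22_iff.2 b.2
  · intro a b
    simp only [H29.bRel, Bool.and_eq_true, bne_iff_ne, maskOf_and_eq_zero, decide_eq_true_eq,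
      ne_eq, maskOf_injective.eq_iff, Subtype.coe_inj,
      model, SimpleGraph.fromRel_adj, disjoint_comm (a := (b : Finset GolayPt)), or_self]

theorem separates : ((List.range 24).all fun i => (List.range 24).all fun j =>
    i == 0 || i == 23 || j == 0 || j == 23 || i == j ||
      hex22.any fun m => m.testBit i && !m.testBit j) = true := by
  decide +kernel

theorem smul_mem_std22 {σ : Equiv.Perm GolayPt} (hσ : σ ∈ Cfsg.Spor.M22) {s : Finset GolayPt}
    (hs : s ∈ std22) : σ • s ∈ std22 := by
  obtain ⟨-, h2, h3⟩ := mem_M22_iff.1 hσ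
  have h : σ • std22 = std22 := by rw [← std22_eq, smul_derived h2, h3]
  rw [← h]
  exact Set.smul_mem_smul_set hs

/-- The action of M22 on the block graph. -/
def modelHom : Cfsg.Spor.M22 →* (model ≃g model) where
  toFun σ :=
    { toFun := fun b => ⟨(σ : Equiv.Perm GolayPt) • b.1, smul_mem_std22 σ.2 b.2⟩
      invFun := fun b => ⟨(σ : Equiv.Perm GolayPt)⁻¹ • b.1,
        smul_mem_std22 (Cfsg.Spor.M22.inv_mem σ.2) b.2⟩
      left_inv := fun b => Subtype.ext (inv_smul_smul _ _)
      right_inv := fun b => Subtype.ext (smul_inv_smul _ _)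
      map_rel_iff' := by
        intro a b
        simp only [model, SimpleGraph.fromRel_adj, Equiv.coe_fn_mk, ne_eq, Subtype.ext_iff,
          smul_left_cancel_iff, smul_eq_map, Finset.disjoint_map, Finset.map_inj] }
  map_one' := RelIso.ext fun b => Subtype.ext (one_smul _ _)
  map_mul' σ τ := RelIso.ext fun b => Subtype.ext (mul_smul _ _ _)

theorem modelHom_injective : Function.Injective modelHom := by
  rw [injective_iff_map_eq_one]
  intro σ hσ
  obtain ⟨h23, h0, -⟩ := mem_M22_iff.1 σ.2
  apply Subtype.ext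
  refine Equiv.ext fun p => ?_
  show (σ : Equiv.Perm GolayPt) p = p
  by_contra hne
  set q := (σ : Equiv.Perm GolayPt) p with hq
  have hp : Golay.idx p ≠ 0 ∧ Golay.idx p ≠ 23 := by
    constructor <;> intro e <;> apply hne
    · rw [hq, ← Golay.pt_idx p, e, h0]
    · rw [hq, ← Golay.pt_idx p, e, h23]
  have hq' : Golay.idx q ≠ 0 ∧ Golay.idx q ≠ 23 := by
    constructor <;> intro e <;> apply hne
    · have : q = Golay.pt 0 := by rw [← e, Golay.pt_idx]
      rw [this]
      exact (Equiv.injective _ ((hq.symm.trans this).trans h0.symm)).symm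
    · have : q = Golay.pt 23 := by rw [← e, Golay.pt_idx]
      rw [this]
      exact (Equiv.injective _ ((hq.symm.trans this).trans h23.symm)).symm
  have hij : Golay.idx p ≠ Golay.idx q := fun e => hne (by
    rw [← Golay.pt_idx q, ← e, Golay.pt_idx])
  have h := separates
  simp only [List.all_eq_true, List.mem_range, Bool.or_eq_true, beq_iff_eq, List.any_eq_true,
    Bool.and_eq_true, Bool.not_eq_true'] at h
  rcases h _ (Golay.idx_lt p) _ (Golay.idx_lt q) with ((((h | h) | h) | h) | h) | ⟨m, hm, hmi, hmj⟩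
  · exact hp.1 h
  · exact hp.2 h
  · exact hq'.1 h
  · exact hq'.2 h
  · exact hij h
  have hfix : (σ : Equiv.Perm GolayPt) • Golay.ptSet m = Golay.ptSet m :=
    congrArg Subtype.val (DFunLike.congr_fun hσ (⟨Golay.ptSet m, ⟨m, hm, rfl⟩⟩ : ↥std22))
  have hin : q ∈ Golay.ptSet m := by
    rw [← hfix]
    exact Finset.smul_mem_smul_finset (Golay.mem_ptSet.2 hmi)
  rw [Golay.mem_ptSet, hmj] at hin
  exact absurd hin Bool.false_ne_true

end Cfsg.Agent.H69.MTwentyTwo
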