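import Mathlib

/-!
Suborbits of the action of degree 77 on the cosets of the normalizer of a subgroup of order 16
in a group of order 443520: there is one of size 16, joined to the base point by a swap.
-/

set_option autoImplicit false

namespace Cfsg.Agent.H69.MTwentyTwo

open MulAction

theorem nat_modEq_of_eq {a b n : ℕ} (h : a = b) : a ≡ b [MOD n] := h ▸ Nat.ModEq.refl a

theorem modEq_fixed {P α : Type*} [Group P] [Finite P] [MulAction P α] [Finite α] (hP : Nat.card P = 5)
    (S : Set α) (hS : ∀ (p : P) x, x ∈ S → p • x ∈ S) :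
    Nat.card S ≡ Nat.card {x : α // x ∈ S ∧ ∀ p : P, p • x = x} [MOD 5] := by
  haveI : Fact (Nat.Prime 5) := ⟨by norm_num⟩
  let T : SubMulAction P α := { carrier := S, smul_mem' := fun p x hx => hS p x hx }
  have h := (IsPGroup.of_card (p := 5) (n := 1) (by simpa using hP)).card_modEq_card_fixedPoints T
  refine h.trans (nat_modEq_of_eq ?_)
  apply Nat.card_congr
  exact
    { toFun := fun x => ⟨x.1.1, x.1.2, fun p => congrArg Subtype.val (x.2 p)⟩
      invFun := fun x => ⟨⟨x.1, x.2.1⟩, fun p => Subtype.ext (x.2.2 p)⟩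
      left_inv := fun _ => rfl
      right_inv := fun _ => rfl }

variable {G : Type*} [Group G] [Finite G]

/-- A subgroup of order prime to five normalised by a self-centralising group of order five. -/
theorem card_modEq_one (P X : Subgroup G) (hP : Nat.card P = 5)
    (hC : Nat.card (Subgroup.centralizer (P : Set G)) = 5)
    (hn : ∀ p ∈ P, ∀ x ∈ X, p * x * p⁻¹ ∈ X) (h5 : ¬ 5 ∣ Nat.card X) :
    Nat.card X ≡ 1 [MOD 5] := by
  haveI : Fact (Nat.Prime 5) := ⟨by norm_num⟩
  haveI : IsCyclic P := isCyclic_of_prime_card hP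
  have hPC : P ≤ Subgroup.centralizer (P : Set G) := fun x hx y hy => by
    letI : CommGroup P := IsCyclic.commGroup
    exact congrArg Subtype.val (mul_comm (⟨y, hy⟩ : P) ⟨x, hx⟩)
  have hPC' : Subgroup.centralizer (P : Set G) = P :=
    (Subgroup.eq_of_le_of_card_ge hPC (by rw [hC, hP])).symm
  let A : MulAction P G := MulAction.compHom G (ConjAct.toConjAct.toMonoidHom.comp P.subtype)
  letI : MulAction P G := A
  have hsm : ∀ (p : P) (x : G), p • x = (p : G) * x * (p : G)⁻¹ := fun p x => rfl
  have h := modEq_fixed (P := P) hP (X : Set G) fun p x hx => by rw [hsm]; exact hn p p.2 x hx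
  refine h.trans (nat_modEq_of_eq ?_)
  rw [Nat.card_eq_one_iff_unique]
  refine ⟨⟨fun x y => ?_⟩, ⟨1, X.one_mem, fun p => by rw [hsm]; group⟩⟩
  suffices ∀ z : {z : G // z ∈ (X : Set G) ∧ ∀ p : P, p • z = z}, z.1 = 1 from
    Subtype.ext ((this x).trans (this y).symm)
  rintro ⟨z, hz, hfix⟩
  have hzP : z ∈ P := by
    rw [← hPC']
    intro p hp
    have := hfix ⟨p, hp⟩
    rw [hsm] at this
    exact mul_inv_eq_iff_eq_mul.1 this
  rw [← orderOf_eq_one_iff]
  have h1 : orderOf z ∣ 5 := hP ▸ P.orderOf_dvd_natCard hzP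
  rcases (Nat.dvd_prime (by norm_num)).1 h1 with e | e
  · exact e
  · exact absurd (e ▸ X.orderOf_dvd_natCard hz) h5

theorem sizes {d : ℕ} (hd : d ∣ 5760) (hd' : 76 - d ∣ 5760) (h5 : d % 5 = 1) (hlt : d < 76) :
    d = 16 ∨ d = 36 := by
  have key : (List.range 76).all (fun d => d % 5 != 1 || 5760 % d != 0 || 5760 % (76 - d) != 0 ||
      d == 16 || d == 36) = true := by decide +kernel
  have := List.all_eq_true.1 key d (List.mem_range.2 hlt)
  simp [h5, Nat.dvd_iff_mod_eq_zero.1 hd, Nat.dvd_iff_mod_eq_zero.1 hd'] at this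
  exact this

theorem card_orbit_dvd {H α : Type*} [Group H] [Finite H] [MulAction H α] (x : α) :
    Nat.card (orbit H x) * Nat.card (stabilizer H x) = Nat.card H := by
  rw [← (stabilizer H x).index_mul_card, index_stabilizer, Nat.card_coe_set_eq]

/-- The suborbit of size sixteen. -/
theorem exists_suborbit (hcard : Nat.card G = 443520) (E : Subgroup G) (hE : Nat.card E = 16)
    (hH : (Subgroup.normalizer (E : Set G)).index = 77)
    (hP5 : ∀ P : Subgroup G, Nat.card P = 5 → Nat.card (Subgroup.centralizer (P : Set G)) = 5 ∧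
      Nat.card (Subgroup.normalizer (P : Set G)) = 20)
    (hrank : Nat.card (orbitRel.Quotient (Subgroup.normalizer (E : Set G))
      (G ⧸ Subgroup.normalizer (E : Set G))) = 3) :
    ∃ (g : G) (b c : G ⧸ Subgroup.normalizer (E : Set G)),
      g • ((1 : G) : G ⧸ Subgroup.normalizer (E : Set G)) = b ∧
      g • b = ((1 : G) : G ⧸ Subgroup.normalizer (E : Set G)) ∧
      Nat.card (orbit (Subgroup.normalizer (E : Set G)) b) = 16 ∧
      Nat.card (orbit (Subgroup.normalizer (E : Set G)) c) = 60 ∧
      ((1 : G) : G ⧸ Subgroup.normalizer (E : Set G)) ∉ orbit (Subgroup.normalizer (E : Set G)) b ∧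
      (∀ y, y = ((1 : G) : G ⧸ Subgroup.normalizer (E : Set G)) ∨
        y ∈ orbit (Subgroup.normalizer (E : Set G)) b ∨
        y ∈ orbit (Subgroup.normalizer (E : Set G)) c) := by
  classical
  haveI : Fact (Nat.Prime 5) := ⟨by norm_num⟩
  set H := Subgroup.normalizer (E : Set G) with hHdef
  set a : G ⧸ H := ((1 : G) : G ⧸ H) with ha
  have hEH : E ≤ H := Subgroup.le_normalizer
  have hHcard : Nat.card H = 5760 := by
    have := H.card_mul_index
    rw [hH, hcard] at this
    omega
  have hstab : stabilizer G a = H := stabilizer_quotient H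
  have hmemH : ∀ x : G, x • a = a ↔ x ∈ H := fun x => by rw [← mem_stabilizer_iff, hstab]
  have hN : Nat.card (G ⧸ H) = 77 := by rw [← Subgroup.index_eq_card, hH]
  obtain ⟨P0, hP0⟩ : ∃ P : Subgroup H, Nat.card P = 5 := by
    obtain ⟨P, hP⟩ := Sylow.exists_subgroup_card_pow_prime (G := H) 5 (n := 1)
      (by rw [hHcard]; norm_num)
    exact ⟨P, by simpa using hP⟩
  set P : Subgroup G := P0.map H.subtype with hPdef
  have hP : Nat.card P = 5 := by
    rw [hPdef, Subgroup.card_subtype, hP0]
  have hPH : P ≤ H := Subgroup.map_subtype_le P0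
  obtain ⟨hCP, hNP⟩ := hP5 P hP
  set N := Subgroup.normalizer (P : Set G) with hNdef
  -- the fixed points
  let F : Set (G ⧸ H) := {x | ∀ p : P, p • x = x}
  have hF : F = orbit N a := by
    ext x
    constructor
    · intro hx
      obtain ⟨k, rfl⟩ := QuotientGroup.mk_surjective x
      have hk : ∀ p ∈ P, k⁻¹ * p * k ∈ H := by
        intro p hp
        have := hx ⟨p, hp⟩
        change ((p * k : G) : G ⧸ H) = _ at this
        rw [eq_comm, QuotientGroup.eq, ← mul_assoc] at this
        exact this
      set Q : Subgroup G := P.map (MulAut.conj k⁻¹).toMonoidHom with hQdef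
      have hQH : Q ≤ H := by
        rintro _ ⟨p, hp, rfl⟩
        simpa using hk p hp
      have hQ : Nat.card Q = 5 := by
        rw [hQdef, Subgroup.card_map_of_injective (MulAut.conj k⁻¹).injective, hP]
      have hsyl : ∀ R : Subgroup G, R ≤ H → Nat.card R = 5 → ∃ S : Sylow 5 H, (S : Subgroup H) = R.subgroupOf H := by
        intro R hR hRc
        refine ⟨Sylow.ofCard (R.subgroupOf H) ?_, Sylow.coe_ofCard _ _⟩
        rw [Nat.card_congr (Subgroup.subgroupOfEquivOfLe hR).toEquiv, hRc, hHcard,
          show (5760 : ℕ) = 5 ^ 1 * 1152 by norm_num,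
          Nat.factorization_mul (by norm_num) (by norm_num), Finsupp.add_apply,
          Nat.Prime.factorization_pow (by norm_num), Finsupp.single_eq_same,
          Nat.factorization_eq_zero_of_not_dvd (by norm_num)]
        norm_num
      obtain ⟨S, hS⟩ := hsyl P hPH hP
      obtain ⟨T, hT⟩ := hsyl Q hQH hQ
      obtain ⟨h, hh⟩ := MulAction.exists_smul_eq H T S
      have hh' : ∀ q ∈ Q, (h : G) * q * (h : G)⁻¹ ∈ P := by
        intro q hq
        have h1 : h * ⟨q, hQH hq⟩ * h⁻¹ ∈ (S : Subgroup H) := by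
          rw [← hh]
          exact ⟨⟨q, hQH hq⟩, (by rw [SetLike.mem_coe, hT]; exact hq), rfl⟩
        rw [hS] at h1
        exact h1
      have hkN : k * (h : G)⁻¹ ∈ N := by
        have hle : P.map (MulAut.conj (k * (h : G)⁻¹)⁻¹).toMonoidHom ≤ P := by
          rintro _ ⟨p, hp, rfl⟩
          have := hh' _ ⟨p, hp, rfl⟩
          simpa [mul_assoc] using this
        have heq := Subgroup.eq_of_le_of_card_ge hle
          (le_of_eq (Subgroup.card_map_of_injective (K := P) (f := (MulAut.conj (k * (h : G)⁻¹)⁻¹).toMonoidHom) (MulEquiv.injective _)).symm)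
        rw [← inv_mem_iff]
        intro p
        constructor
        · intro hp
          rw [← heq]
          exact ⟨p, hp, by simp [mul_assoc]⟩
        · intro hp
          rw [← heq] at hp
          obtain ⟨p', hp', he⟩ := hp
          have : p' = p := by simpa [mul_assoc] using he
          exact this ▸ hp'
      refine ⟨⟨_, hkN⟩, ?_⟩
      change ((k * (h : G)⁻¹) • a) = _
      rw [mul_smul, (hmemH _).2 (H.inv_mem h.2), ha]
      simp
    · rintro ⟨⟨n, hn⟩, rfl⟩ ⟨p, hp⟩
      change p • n • a = n • a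
      have : n⁻¹ * p * n ∈ H := hPH ((Subgroup.mem_normalizer_iff''.1 hn p).1 hp)
      calc p • n • a = n • (n⁻¹ * p * n) • a := by rw [← mul_smul, ← mul_smul]; group
        _ = n • a := by rw [(hmemH _).2 this]
  have hFmod : 77 ≡ Nat.card F [MOD 5] := by
    have h := modEq_fixed (P := P) hP (Set.univ : Set (G ⧸ H)) fun _ _ _ => trivial
    rw [Nat.card_coe_set_eq, Set.ncard_univ, hN] at h
    exact h.trans (nat_modEq_of_eq (Nat.card_congr (Equiv.subtypeEquivRight fun x => by simp [F])))
  have hF2 : Nat.card F = 2 := by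
    have h := card_orbit_dvd (H := N) a
    rw [← hF, hNP] at h
    have hd : Nat.card F ∣ 20 := ⟨_, h.symm⟩
    have hle := Nat.le_of_dvd (by norm_num) hd
    unfold Nat.ModEq at hFmod
    interval_cases Nat.card F <;> omega
  have haF : a ∈ F := by rw [hF]; exact mem_orbit_self a
  obtain ⟨b, hb⟩ : ∃ b, F = {a, b} ∧ b ≠ a := by
    rw [Nat.card_coe_set_eq, Set.ncard_eq_two] at hF2
    obtain ⟨x, y, hxy, hFe⟩ := hF2
    rw [hFe] at haF ⊢
    rcases haF with h | h
    · exact ⟨y, by rw [h], fun e => hxy (h.symm.trans e.symm)⟩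
    · rw [Set.mem_singleton_iff] at h
      exact ⟨x, by rw [h, Set.pair_comm], fun e => hxy (e.trans h)⟩
  obtain ⟨hFab, hba⟩ := hb
  obtain ⟨⟨g, hgN⟩, hga⟩ : b ∈ orbit N a := by rw [← hF, hFab]; simp
  change g • a = b at hga
  have hgb : g • b = a := by
    have h : g • b ∈ F := by
      rw [hF]
      exact ⟨⟨g, hgN⟩ * ⟨g, hgN⟩, (mul_smul g g a).trans (congrArg (g • ·) hga)⟩
    rw [hFab] at h
    rcases h with h | h
    · exact h
    · rw [Set.mem_singleton_iff] at h
      exact absurd (smul_left_cancel g (h.trans hga.symm)) hba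
  have hab : a ∉ orbit H b := by
    rintro ⟨⟨h, hh⟩, e⟩
    change h • b = a at e
    exact hba (smul_left_cancel h (e.trans ((hmemH h).2 hh).symm))
  -- the three orbits
  let cls : G ⧸ H → orbitRel.Quotient H (G ⧸ H) := fun x => Quotient.mk'' x
  have hcls : ∀ x y, cls x = cls y ↔ x ∈ orbit H y := fun x y => Quotient.eq''.trans orbitRel_apply
  have horba : ∀ y, y ∈ orbit H a → y = a := by
    rintro _ ⟨⟨h, hh⟩, rfl⟩
    exact (hmemH h).2 hh
  haveI : Fintype (orbitRel.Quotient H (G ⧸ H)) := Fintype.ofFinite _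
  rw [Nat.card_eq_fintype_card] at hrank
  obtain ⟨q, hqa, hqb⟩ : ∃ q, q ≠ cls a ∧ q ≠ cls b := by
    obtain ⟨q, hq⟩ := Finset.exists_mem_notMem_of_card_lt_card
      (s := {cls a, cls b}) (t := Finset.univ)
      (lt_of_le_of_lt Finset.card_le_two (by rw [Finset.card_univ, hrank]; norm_num))
    exact ⟨q, fun e => hq.2 (by simp [e]), fun e => hq.2 (by simp [e])⟩
  obtain ⟨c, hc⟩ := Quotient.mk''_surjective q
  have hall : ∀ y, y = a ∨ y ∈ orbit H b ∨ y ∈ orbit H c := by
    intro y
    have hab' : cls a ≠ cls b := fun e => hab ((hcls _ _).1 e)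
    have huniv : ({cls a, cls b, q} : Finset _) = Finset.univ := by
      apply Finset.eq_univ_of_card
      rw [hrank, Finset.card_eq_three.2 ⟨_, _, _, hab', hqa.symm, hqb.symm, rfl⟩]
    have := huniv ▸ Finset.mem_univ (cls y)
    simp only [Finset.mem_insert, Finset.mem_singleton] at this
    rcases this with h | h | h
    · exact Or.inl (horba _ ((hcls _ _).1 h))
    · exact Or.inr (Or.inl ((hcls _ _).1 h))
    · exact Or.inr (Or.inr ((hcls _ _).1 (h.trans hc.symm)))
  have hbc : b ∉ orbit H c := fun h => hqb (hc.symm.trans ((hcls _ _).2 h).symm)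
  have hac : a ∉ orbit H c := fun h => hqa (hc.symm.trans ((hcls _ _).2 h).symm)
  have hdisj : ∀ y, y ∈ orbit H b → y ∉ orbit H c := fun y h h' => hbc (by
    rw [← orbit_eq_iff.2 h', orbit_eq_iff.2 h]; exact mem_orbit_self b)
  have hsum : Nat.card (orbit H b) + Nat.card (orbit H c) = 76 := by
    have h := Set.ncard_union_eq (s := orbit H b) (t := orbit H c)
      (Set.disjoint_left.2 fun y h => hdisj y h)
    have hu : orbit H b ∪ orbit H c = {a}ᶜ := by
      ext y
      constructor
      · rintro (h | h) <;> rintro rfl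
        exacts [hab h, hac h]
      · intro hy
        exact (hall y).resolve_left hy
    rw [hu, Set.ncard_compl, hN, Set.ncard_singleton] at h
    simp only [Nat.card_coe_set_eq]
    omega
  have hdvd : ∀ x : G ⧸ H, Nat.card (orbit H x) ∣ 5760 := fun x =>
    ⟨_, ((card_orbit_dvd (H := H) x).trans hHcard).symm⟩
  have h5b : Nat.card (orbit H b) % 5 = 1 := by
    have h := modEq_fixed (P := P) hP (orbit H b) fun p x hx => by
      rw [← orbit_eq_iff.2 hx]
      exact ⟨⟨p, hPH p.2⟩, rfl⟩
    have h1 : Nat.card {x // x ∈ orbit H b ∧ ∀ p : P, p • x = x} = 1 := by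
      rw [Nat.card_eq_one_iff_unique]
      have hbF : b ∈ F := by rw [hFab]; simp
      refine ⟨⟨fun x y => Subtype.ext ?_⟩, ⟨b, mem_orbit_self b, hbF⟩⟩
      have hx : x.1 ∈ F := x.2.2
      have hy : y.1 ∈ F := y.2.2
      rw [hFab] at hx hy
      rcases hx with hx | hx
      · exact absurd (hx ▸ x.2.1) hab
      rcases hy with hy | hy
      · exact absurd (hy ▸ y.2.1) hab
      exact hx.trans hy.symm
    rw [h1] at h
    exact h
  have hlt : Nat.card (orbit H b) < 76 := by
    have : 0 < Nat.card (orbit H c) := Nat.card_pos_iff.2 ⟨⟨c, mem_orbit_self c⟩, inferInstance⟩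
    omega
  have h16 : Nat.card (orbit H b) = 16 := by
    rcases sizes (hdvd b) (by rw [show 76 - Nat.card (orbit H b) = Nat.card (orbit H c) by omega]; exact hdvd c) h5b hlt with h | h
    · exact h
    exfalso
    set L := H ⊓ stabilizer G b with hLdef
    have hLH : L ≤ H := inf_le_left
    have hL : Nat.card L = 160 := by
      have e : stabilizer H b = L.subgroupOf H := by
        ext x
        simp [hLdef, Subgroup.mem_subgroupOf]; rfl
      have := card_orbit_dvd (H := H) b
      rw [h, hHcard, e, Nat.card_congr (Subgroup.subgroupOfEquivOfLe hLH).toEquiv] at this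
      omega
    have hPE : ∀ p ∈ P, ∀ x ∈ E, p * x * p⁻¹ ∈ E := fun p hp x hx =>
      (Subgroup.mem_normalizer_iff.1 (hPH hp) x).1 hx
    have hPb : ∀ p ∈ P, p • b = b := by
      intro p hp
      have hbF : b ∈ F := by rw [hFab]; simp
      exact hbF ⟨p, hp⟩
    have hPL : P ≤ L := fun p hp => ⟨hPH hp, hPb p hp⟩
    haveI hEn : (E.subgroupOf H).Normal :=
      Subgroup.normal_subgroupOf_iff_le_normalizer hEH |>.2 le_rfl
    have hEL : E ≤ L := by
      have hmod : Nat.card (E ⊓ L : Subgroup G) ≡ 1 [MOD 5] :=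
        card_modEq_one P _ hP hCP (fun p hp x hx => ⟨hPE p hp x hx.1,
          L.mul_mem (L.mul_mem (hPL hp) hx.2) (L.inv_mem (hPL hp))⟩) fun h5 => by
            have := h5.trans (Subgroup.card_dvd_of_le (inf_le_left : E ⊓ L ≤ E))
            rw [hE] at this
            norm_num at this
      have hd : Nat.card (E ⊓ L : Subgroup G) ∣ 16 := hE ▸ Subgroup.card_dvd_of_le inf_le_left
      have hne : Nat.card (E ⊓ L : Subgroup G) ≠ 1 := by
        intro h1
        rw [Subgroup.card_eq_one] at h1
        have hr := Subgroup.relIndex_dvd_index_of_normal (E.subgroupOf H) (L.subgroupOf H)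
        rw [Subgroup.relIndex_subgroupOf hLH, ← Subgroup.inf_relIndex_right, h1,
          Subgroup.relIndex_bot_left, hL] at hr
        change 160 ∣ E.relIndex H at hr
        have := Subgroup.relIndex_mul_index hEH
        have hEi := E.card_mul_index
        rw [hE, hcard] at hEi
        rw [hH] at this
        have : E.relIndex H = 360 := by omega
        rw [this] at hr
        norm_num at hr
      have : Nat.card (E ⊓ L : Subgroup G) = 16 := by
        have := Nat.le_of_dvd (by norm_num) hd
        unfold Nat.ModEq at hmod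
        interval_cases Nat.card (E ⊓ L : Subgroup G) <;> omega
      exact inf_eq_left.1 (Subgroup.eq_of_le_of_card_ge inf_le_left (by rw [this, hE]))
    set E' := E.map (MulAut.conj g).toMonoidHom with hE'def
    have hE' : Nat.card E' = 16 := by
      rw [hE'def, Subgroup.card_map_of_injective (MulAut.conj g).injective, hE]
    have hga' : g⁻¹ • a = b := inv_smul_eq_iff.2 hgb.symm
    have hgb' : g⁻¹ • b = a := inv_smul_eq_iff.2 hga.symm
    have hE'L : E' ≤ L := by
      rintro _ ⟨e, he, rfl⟩
      have h1 : e • b = b := (hEL he).2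
      have h2 : e • a = a := (hmemH e).2 (hEH he)
      refine ⟨(hmemH _).1 ?_, ?_⟩
      · simp only [MulEquiv.coe_toMonoidHom, MulAut.conj_apply, mul_smul, hga', h1, hgb]
      · show _ • b = b
        simp only [MulEquiv.coe_toMonoidHom, MulAut.conj_apply, mul_smul, hgb', h2, hga]
    have hmod : Nat.card (E ⊓ E' : Subgroup G) ≡ 1 [MOD 5] :=
      card_modEq_one P _ hP hCP (fun p hp x hx => ⟨hPE p hp x hx.1, by
        obtain ⟨e, he, rfl⟩ := hx.2
        have hp' : g⁻¹ * p * g ∈ P := (Subgroup.mem_normalizer_iff''.1 hgN p).1 hp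
        exact ⟨_, hPE _ hp' e he, by simp [mul_assoc]⟩⟩) fun h5 => by
          have := h5.trans (Subgroup.card_dvd_of_le (inf_le_left : E ⊓ E' ≤ E))
          rw [hE] at this
          norm_num at this
    have hr : E.relIndex E' ∣ 10 := by
      haveI : (E.subgroupOf L).Normal :=
        Subgroup.normal_subgroupOf_iff_le_normalizer hEL |>.2 hLH
      have hr := Subgroup.relIndex_dvd_index_of_normal (E.subgroupOf L) (E'.subgroupOf L)
      rw [Subgroup.relIndex_subgroupOf hE'L] at hr
      have := Subgroup.card_mul_index (E.subgroupOf L)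
      rw [Nat.card_congr (Subgroup.subgroupOfEquivOfLe hEL).toEquiv, hE, hL] at this
      have e10 : (E.subgroupOf L).index = 10 := by omega
      exact e10 ▸ hr
    have hm : Nat.card (E ⊓ E' : Subgroup G) * E.relIndex E' = 16 := by
      rw [← Subgroup.inf_relIndex_right, ← Subgroup.relIndex_bot_left (E ⊓ E'),
        Subgroup.relIndex_mul_relIndex _ _ _ bot_le inf_le_right, Subgroup.relIndex_bot_left, hE']
    have hr' : E.relIndex E' ∣ 2 := by
      have := Nat.dvd_gcd hr (Dvd.intro_left _ hm)
      exact this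
    have hI : Nat.card (E ⊓ E' : Subgroup G) = 16 := by
      rcases (Nat.dvd_prime Nat.prime_two).1 hr' with e | e <;> rw [e] at hm
      · omega
      · exfalso
        unfold Nat.ModEq at hmod
        omega
    have e1 : E ⊓ E' = E := Subgroup.eq_of_le_of_card_ge inf_le_left (by rw [hI, hE])
    have e2 : E = E' := Subgroup.eq_of_le_of_card_ge (inf_eq_left.1 e1) (by rw [hE, hE'])
    have hgH : g ∈ H := by
      intro x
      constructor
      · intro hx
        rw [SetLike.mem_coe, e2]
        exact ⟨x, hx, rfl⟩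
      · intro hx
        rw [SetLike.mem_coe, e2] at hx
        obtain ⟨y, hy, he⟩ := hx
        exact (MulAut.conj g).injective he ▸ hy
    exact hba (hga ▸ (hmemH g).2 hgH)
  exact ⟨g, b, c, hga, hgb, h16, by omega, hab, hall⟩

end Cfsg.Agent.H69.MTwentyTwo
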