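import Cfsg.Agent.H69.MTwentyTwo.Rank
import Cfsg.Agent.H69.MTwentyTwo.Suborbit
import Cfsg.Agent.H69.MTwentyTwo.Graph
import Cfsg.Agent.H69.MTwentyTwo.GraphAut
import Cfsg.Agent.H69.MTwentyTwo.Model
import Cfsg.Agent.Golay.Mathieu
import Cfsg.Prelude.Def_Sporadic

/-!
A simple group of order 443520 with a subgroup of order 16 whose normalizer has index 77 is M22.
-/

set_option autoImplicit false

namespace Cfsg.Agent.H69.MTwentyTwo

open Cfsg MulAction
open scoped commutatorElement

/-- Two simple groups of order `443520` inside a group of order at most `887040` are equal. -/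
theorem range_eq {A B X : Type*} [Group A] [Group B] [Group X] [Finite X] [IsSimpleGroup A]
    (hA : Nat.card A = 443520) (hB : Nat.card B = 443520) (hX : Nat.card X ≤ 887040)
    {α : A →* X} {β : B →* X} (hα : Function.Injective α) (hβ : Function.Injective β) :
    α.range = β.range := by
  haveI : Finite A := Finite.of_injective α hα
  have hAr : Nat.card α.range = 443520 :=
    (Nat.card_congr (MonoidHom.ofInjective hα).toEquiv).symm.trans hA
  have hBr : Nat.card β.range = 443520 :=
    (Nat.card_congr (MonoidHom.ofInjective hβ).toEquiv).symm.trans hB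
  have hle : α.range ≤ β.range := by
    have hidx : β.range.index ≤ 2 := by
      have h := β.range.card_mul_index
      rw [hBr] at h
      omega
    have h0 : β.range.index ≠ 0 := Subgroup.index_ne_zero_of_finite
    set C := β.range.comap α with hC
    have hCi : C.index ≤ 2 := by
      rw [hC, Subgroup.index_comap]
      have h := Subgroup.relIndex_le_of_le_right (H := β.range) (le_top : α.range ≤ ⊤)
        (by rw [Subgroup.relIndex_top_right]; exact h0)
      rw [Subgroup.relIndex_top_right] at h
      exact h.trans hidx
    have hC0 : C.index ≠ 0 := Subgroup.index_ne_zero_of_finite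
    have hCn : C.Normal := by
      rcases (show C.index = 1 ∨ C.index = 2 by omega) with e | e
      · rw [Subgroup.index_eq_one] at e
        rw [e]; infer_instance
      · exact Subgroup.normal_of_index_eq_two e
    rcases hCn.eq_bot_or_eq_top with h | h
    · rw [h, Subgroup.index_bot, hA] at hCi
      omega
    · rintro _ ⟨x, rfl⟩
      exact (h.symm ▸ Subgroup.mem_top x : x ∈ C)
  exact Subgroup.eq_of_le_of_card_ge hle (by rw [hAr, hBr])

theorem not_comm {G : Type*} [Group G] [Finite G] (hG : Cfsg.IsM22 G) : commutator G = ⊤ := by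
  haveI := hG.1
  rcases (inferInstance : (commutator G).Normal).eq_bot_or_eq_top with h | h
  · exfalso
    letI : CommGroup G :=
      { ‹Group G› with
        mul_comm := fun a b => by
          have : ⁅a, b⁆ ∈ commutator G :=
            Subgroup.commutator_mem_commutator (Subgroup.mem_top a) (Subgroup.mem_top b)
          rw [h, Subgroup.mem_bot] at this
          exact commutatorElement_eq_one_iff_mul_comm.1 this }
    have hp := IsSimpleGroup.prime_card (α := G)
    rw [hG.2] at hp
    norm_num at hp
  · exact h

/-- Identification of M22 from the subgroup of order sixteen. -/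
theorem isoM22_of_normalizer {G : Type*} [Group G] [Fintype G] (hG : Cfsg.IsM22 G) (E : Subgroup G)
    (hE : Nat.card E = 16) (hH : (Subgroup.normalizer (E : Set G)).index = 77)
    (hP5 : ∀ P : Subgroup G, Nat.card P = 5 → Nat.card (Subgroup.centralizer (P : Set G)) = 5 ∧
      Nat.card (Subgroup.normalizer (P : Set G)) = 20)
    (hdeg : (Finset.univ.val.map fun chi : IrrCharacter G => charDegree (chi : G → ℂ)) =
      ({1, 21, 45, 45, 55, 99, 154, 210, 231, 280, 280, 385} : Multiset ℕ)) :
    Spor.IsoM22 G := by
  classical
  haveI := hG.1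
  haveI := Golay.isM22_spor.1
  set H := Subgroup.normalizer (E : Set G) with hHdef
  set a : G ⧸ H := ((1 : G) : G ⧸ H) with ha
  have hstab : stabilizer G a = H := stabilizer_quotient H
  have hN : Nat.card (G ⧸ H) = 77 := by rw [← Subgroup.index_eq_card, hH]
  haveI : Fintype (G ⧸ H) := Fintype.ofFinite _
  have hdeg' : ∀ χ : IrrCharacter G, charDegree (χ : G → ℂ) ≠ 1 →
      charDegree (χ : G → ℂ) = 21 ∨ charDegree (χ : G → ℂ) = 45 ∨
        charDegree (χ : G → ℂ) = 55 ∨ 76 < charDegree (χ : G → ℂ) := by
    intro χ hne
    have h : charDegree (χ : G → ℂ) ∈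
        ({1, 21, 45, 45, 55, 99, 154, 210, 231, 280, 280, 385} : Multiset ℕ) := by
      rw [← hdeg]
      exact Multiset.mem_map_of_mem (fun chi : IrrCharacter G => charDegree (chi : G → ℂ))
        (Finset.mem_univ χ)
    simp only [Multiset.insert_eq_cons, Multiset.mem_cons, Multiset.mem_singleton] at h
    omega
  have hrank := rank_three (not_comm hG) hdeg' (Ω := G ⧸ H)
    (by rw [← Nat.card_eq_fintype_card, hN]) a
  have hrank' : Nat.card (orbitRel.Quotient H (G ⧸ H)) = 3 :=
    (congrArg (fun K : Subgroup G => Nat.card (orbitRel.Quotient K (G ⧸ H))) hstab).symm.trans hrank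
  obtain ⟨g, b, c, hga, hgb, h16, h60, hab, hall⟩ := exists_suborbit hG.2 E hE hH hP5 hrank'
  have horb : ∀ x : G ⧸ H, orbit (stabilizer G a) x = orbit H x :=
    fun x => congrArg (fun K : Subgroup G => orbit K x) hstab
  have hab' : a ∉ orbit (stabilizer G a) b := by rw [horb]; exact hab
  let Γ := orbitalGraph (G := G) a (orbit (stabilizer G a) b)
  have hΓ : Γ.IsSRGWith 77 16 0 4 := isSRG (G := G) c hga hgb hab'
    (by rw [← Nat.card_eq_fintype_card, hN]) ((congrArg (fun s : Set (G ⧸ H) => Nat.card s) (horb b)).trans h16)
    ((congrArg (fun s : Set (G ⧸ H) => Nat.card s) (horb c)).trans h60)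
    (fun y => (hall y).imp_right (Or.imp (fun h => (horb b).symm ▸ h) fun h => (horb c).symm ▸ h)) (by rw [hG.2]; norm_num)
  haveI : Fintype ↥H29.std22 := Fintype.ofFinite _
  obtain ⟨e⟩ := H29.Srg77.srg77_iso hΓ model_srg
  let φ : G →* (model ≃g model) :=
    { toFun := fun k => e.symm.trans
        (RelIso.trans (⟨MulAction.toPerm k, fun {x y} => adj_smul hga hgb hab' k⟩ : Γ ≃g Γ) e)
      map_one' := RelIso.ext fun x => by
        show e ((1 : G) • e.symm x) = x
        rw [one_smul]; exact e.apply_symm_apply x
      map_mul' := fun k l => RelIso.ext fun x => by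
        show e ((k * l) • e.symm x) = e (k • e.symm (e (l • e.symm x)))
        rw [e.symm_apply_apply, mul_smul] }
  have hφ : Function.Injective φ := by
    rw [← MonoidHom.ker_eq_bot_iff]
    refine φ.normal_ker.eq_bot_or_eq_top.resolve_right fun h => ?_
    have h2 : φ g = 1 := MonoidHom.mem_ker.1 (h.symm ▸ Subgroup.mem_top g)
    have h3 : e (g • e.symm (e a)) = e a := DFunLike.congr_fun h2 (e a)
    rw [e.symm_apply_apply, hga] at h3
    refine hab ?_
    show a ∈ orbit H b
    rw [← e.injective h3]
    exact mem_orbit_self b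
  have hX : Nat.card (model ≃g model) ≤ 887040 := card_aut_le model_srg
  haveI : Finite (model ≃g model) :=
    Finite.of_injective (fun f : model ≃g model => f.toEquiv) RelIso.toEquiv_injective
  have heq := range_eq hG.2 Golay.card_spor_M22 hX hφ modelHom_injective
  exact ⟨((MonoidHom.ofInjective hφ).trans (MulEquiv.subgroupCongr heq)).trans
    (MonoidHom.ofInjective modelHom_injective).symm⟩

end Cfsg.Agent.H69.MTwentyTwo
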