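import Cfsg.Agent.H29.Srg77Class

/-!
Data for the automorphisms of the graph with parameters (77, 16, 0, 4) fixing a vertex: which
triples of the sixteen neighbours lie in one of the sixty traces.
-/

set_option autoImplicit false

namespace Cfsg.Agent.H69.MTwentyTwo

open H29.Srg77

/-- Bit `256 a + 16 b + c` says whether some trace contains `a`, `b` and `c`. -/
def triBits : ℕ := 1044385694158802020564416037377387517025047328160325623314363871514499051749843334874552027635701648904391493660907744908754223491394682435846056371691870656363053880992484233320617685069711632032414632621224178925362982211885773071740277214932214778373571437883310821208228665987228105168768772389737951428004442077434867654780229418119563453551315369765935587855338664634287522887680302655557291032473007309233364521476876758340379883698400890094948860405971623812152270799293917836249775246308537298245395747790943904386907757902924152590772402348487880497968511021809954979135654912456992120976690773564820497417800028391504838111838626873226851280473658662748577666143617466512906681867219613877113721742189602599866323580871061762227672270095354707926041257977750382241212701003757380864172176925068780436919028623089628243117667243315728041223424364392662512754325982676689798903074695629094068237265272966523239746748928677970732929552059400630523921045911361624021384920036267864668197612845260441544018745444476144071001144566876821763905047636210672877727073513887220031966969351403472563209057945674358927717856372228729948878537609254563365888918966395180095535360594944334038498824340625131270176879330147506304819920895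

/-- Some trace contains the three labels. -/
def tri (a b c : ℕ) : Bool := triBits.testBit (256 * a + 16 * b + c)

/-- The first five labels of the base and the remaining ones, each determined by its predecessors. -/
def baseList : List ℕ := [0, 1, 4, 2, 8, 3, 5, 6, 7, 9, 10, 11, 12, 13, 14, 15]

theorem tri_check : ((List.range 16).all fun a => (List.range 16).all fun b => (List.range 16).all fun c =>
    tri a b c == stdAll.any fun m => m.testBit a && m.testBit b && m.testBit c) = true := by
  decide +kernel

/-- Labels with the same incidences with respect to the list. -/
def sameOn (P : List ℕ) (x y : ℕ) : Bool :=
  P.all fun i => P.all fun j => tri i j x == tri i j y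

theorem determined : ((List.range 16).all fun k => Nat.ble k 4 ||
    (List.range 16).all fun y => ((baseList.take k).contains y || baseList.getD k 0 == y ||
      !sameOn (baseList.take k) (baseList.getD k 0) y)) = true := by
  decide +kernel

/-- Five-tuples with the incidences of `0, 1, 4, 2, 8`. -/
def bases : List (ℕ × ℕ × ℕ × ℕ × ℕ) :=
  (List.range 16).flatMap fun a => (List.range 16).flatMap fun b =>
    ((List.range 16).filter fun c => a != b && c != a && c != b && tri a b c).flatMap fun c =>
      ((List.range 16).filter fun d => d != a && d != b && d != c &&
          !tri a b d && tri a c d && !tri b c d).flatMap fun d =>
        ((List.range 16).filter fun e => e != a && e != b && e != c && e != d &&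
          tri a b e && !tri a c e && tri a d e && !tri b c e && !tri b d e && !tri c d e).map fun e =>
            (a, b, c, d, e)

theorem base_pattern : tri 0 1 4 = true ∧ tri 0 1 2 = false ∧ tri 0 4 2 = true ∧ tri 1 4 2 = false ∧
    tri 0 1 8 = true ∧ tri 0 4 8 = false ∧ tri 0 2 8 = true ∧ tri 1 4 8 = false ∧ tri 1 2 8 = false ∧
    tri 4 2 8 = false := by
  decide +kernel

theorem length_bases : bases.length = 11520 := by decide +kernel

end Cfsg.Agent.H69.MTwentyTwo
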