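import Cfsg.Agent.H33.PermCharacter
import Cfsg.Agent.H85.ElemEight.Main
import Cfsg.Agent.H83.ClassConst

/-!
A transitive action of degree 77 of a perfect group without small character degrees other than
21, 45 and 55 has rank three.
-/

set_option autoImplicit false

namespace Cfsg.Agent.H69.MTwentyTwo

open Cfsg CharBasic MulAction

universe u

theorem rank_three {G : Type u} [Group G] [Finite G] (hperf : commutator G = ⊤)
    (hdeg : ∀ χ : IrrCharacter G, charDegree (χ : G → ℂ) ≠ 1 →
      charDegree (χ : G → ℂ) = 21 ∨ charDegree (χ : G → ℂ) = 45 ∨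
        charDegree (χ : G → ℂ) = 55 ∨ 76 < charDegree (χ : G → ℂ))
    {Ω : Type*} [Fintype Ω] [MulAction G Ω] [IsPretransitive G Ω] (hΩ : Fintype.card Ω = 77) (a : Ω) :
    Nat.card (orbitRel.Quotient (stabilizer G a) Ω) = 3 := by
  classical
  haveI := Fintype.ofFinite G
  haveI : Nonempty Ω := ⟨a⟩
  obtain ⟨m, hm, hπ⟩ := IsChar.exists_nat_mult (H33.isCharacter_permChar (G := G) (Ω := Ω))
  let one : IrrCharacter G := ⟨fun _ => 1, isIrrCharacter_one⟩
  have h1 : m one = 1 := by
    have h := hm one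
    rw [show ((one : IrrCharacter G) : G → ℂ) = fun _ => 1 from rfl, H33.classInner_permChar_one] at h
    exact_mod_cast h.symm
  have hd : ∀ ψ : IrrCharacter G, (ψ : G → ℂ) 1 = (charDegree (ψ : G → ℂ) : ℂ) :=
    fun ψ => (H83.charDegree_eq ψ.2).1
  have hone : ∀ ψ : IrrCharacter G, ψ ≠ one → charDegree (ψ : G → ℂ) ≠ 1 := by
    intro ψ hψ h
    apply hψ
    apply Subtype.ext
    refine H85.ElemEight.eq_one_of_degree_one hperf ?_
    rw [hd, h, Nat.cast_one]
  set S : Finset (IrrCharacter G) := Finset.univ.erase one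
  have hsum : ∑ ψ ∈ S, m ψ * charDegree (ψ : G → ℂ) = 76 := by
    have h := congrFun hπ 1
    rw [H33.permChar_one, hΩ, Finset.sum_apply] at h
    simp only [Pi.smul_apply, smul_eq_mul, hd] at h
    rw [← Finset.add_sum_erase _ _ (Finset.mem_univ one), h1] at h
    have e1 : charDegree ((one : IrrCharacter G) : G → ℂ) = 1 := by
      have := hd one
      rw [show ((one : IrrCharacter G) : G → ℂ) 1 = 1 from rfl] at this
      exact_mod_cast this.symm
    rw [e1] at h
    have h' : 77 = 1 + ∑ ψ ∈ S, m ψ * charDegree (ψ : G → ℂ) := by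
      have : ((77 : ℕ) : ℂ) = ((1 + ∑ ψ ∈ S, m ψ * charDegree (ψ : G → ℂ) : ℕ) : ℂ) := by
        push_cast at h ⊢
        linear_combination h
      exact_mod_cast this
    omega
  have hsq : ∑ ψ ∈ S, m ψ * m ψ = 2 := by
    let A := fun d => S.filter fun ψ : IrrCharacter G => charDegree (ψ : G → ℂ) = d
    have hbig : ∀ ψ ∈ S, m ψ ≠ 0 → charDegree (ψ : G → ℂ) = 21 ∨ charDegree (ψ : G → ℂ) = 45 ∨
        charDegree (ψ : G → ℂ) = 55 := by
      intro ψ hψ h0
      rcases hdeg ψ (hone ψ (Finset.ne_of_mem_erase hψ)) with h | h | h | h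
      · exact Or.inl h
      · exact Or.inr (Or.inl h)
      · exact Or.inr (Or.inr h)
      · exfalso
        have := Finset.single_le_sum (f := fun ψ => m ψ * charDegree (ψ : G → ℂ))
          (fun _ _ => Nat.zero_le _) hψ
        rw [hsum] at this
        have := le_trans (Nat.le_mul_of_pos_left _ (Nat.pos_of_ne_zero h0)) this
        omega
    have key : ∀ f : IrrCharacter G → ℕ, (∀ ψ, m ψ = 0 → f ψ = 0) →
        ∑ ψ ∈ S, f ψ = (∑ ψ ∈ A 21, f ψ) + (∑ ψ ∈ A 45, f ψ) + ∑ ψ ∈ A 55, f ψ := by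
      intro f hf
      rw [← Finset.sum_union, ← Finset.sum_union]
      · refine (Finset.sum_subset (fun ψ hψ => ?_) fun ψ hψ hn => ?_).symm
        · simp only [A, Finset.mem_union, Finset.mem_filter] at hψ
          tauto
        · apply hf
          by_contra h0
          apply hn
          simp only [A, Finset.mem_union, Finset.mem_filter]
          rcases hbig ψ hψ h0 with h | h | h <;> tauto
      all_goals
        simp only [A, Finset.disjoint_left, Finset.mem_union, Finset.mem_filter]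
        intro ψ h h'
        omega
    have hk := key (fun ψ => m ψ * charDegree (ψ : G → ℂ)) fun ψ h => by simp [h]
    rw [hsum] at hk
    have hA : ∀ d, ∑ ψ ∈ A d, m ψ * charDegree (ψ : G → ℂ) = d * ∑ ψ ∈ A d, m ψ := by
      intro d
      rw [Finset.mul_sum]
      exact Finset.sum_congr rfl fun ψ hψ => by rw [(Finset.mem_filter.1 hψ).2, mul_comm]
    rw [hA, hA, hA] at hk
    have hval : ∑ ψ ∈ A 21, m ψ = 1 ∧ ∑ ψ ∈ A 45, m ψ = 0 ∧ ∑ ψ ∈ A 55, m ψ = 1 := by omega
    have hsqA : ∀ d, ∑ ψ ∈ A d, m ψ ≤ 1 → ∑ ψ ∈ A d, m ψ * m ψ = ∑ ψ ∈ A d, m ψ := by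
      intro d hd1
      refine Finset.sum_congr rfl fun ψ hψ => ?_
      have := (Finset.single_le_sum (f := m) (fun _ _ => Nat.zero_le _) hψ).trans hd1
      rcases Nat.le_one_iff_eq_zero_or_eq_one.1 this with h | h <;> simp [h]
    rw [key (fun ψ => m ψ * m ψ) (fun ψ h => by simp [h]), hsqA 21 (by omega), hsqA 45 (by omega),
      hsqA 55 (by omega)]
    omega
  have hr := H33.classInner_permChar_self (G := G) a
  have hn : classInner (H33.permChar G Ω) (H33.permChar G Ω) = ((∑ ψ, m ψ * m ψ : ℕ) : ℂ) := by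
    conv_lhs => arg 1; rw [hπ]
    rw [classInner_sum_left, Nat.cast_sum]
    refine Finset.sum_congr rfl fun ψ _ => ?_
    rw [classInner_smul_left, ← classInner_conj_symm, hm, Complex.conj_natCast, Nat.cast_mul]
  rw [hn] at hr
  have := (Nat.cast_injective (R := ℂ) hr).symm
  rw [this, ← Finset.add_sum_erase _ _ (Finset.mem_univ one), h1, hsq]

end Cfsg.Agent.H69.MTwentyTwo
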